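import Groth.Agent.TautSh.K219.PushSum
import Groth.Agent.Flat2D.FibreDimSch
import Mathlib.RingTheory.KrullDimension.Polynomial

/-!
# Intersection numbers of classes from the base only see an open set with small complement

`intNum_eq_of_iso_over`: `Z₁, Z₂` proper over `Y`, finite and isomorphic over an open `W` of `Y` with
`dim (Y \ W) < r`: intersection numbers of `r` classes from the base agree.
-/

set_option autoImplicit false
universe u
open CategoryTheory CategoryTheory.Limits AlgebraicGeometry Opposite TopologicalSpace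
open Groth.Agent.Ega2.Tens (cut ip ip_le ip_le' ip_eq ip_mono cut_smul)

namespace K219.IntOver

open Groth.Agent Groth.Agent.Ega2 Groth.Agent.Fga.PicMon Groth.Agent.Fga.ChiBasic K219.PushSum

variable {Z Y : Scheme.{u}}

theorem bijective_app_of_isIso {M N : Y.Modules} (φ : M ⟶ N) [IsIso φ] (V : Y.Opens) :
    Function.Bijective (φ.app V) := by
  have h1 : φ.app V ≫ (inv φ).app V = 𝟙 _ := congr(($(IsIso.hom_inv_id φ)).app V)
  have h2 : (inv φ).app V ≫ φ.app V = 𝟙 _ := congr(($(IsIso.inv_hom_id φ)).app V)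
  refine ⟨fun a b hab => ?_, fun c => ⟨(inv φ).app V c, congr($h2 c)⟩⟩
  have h3 : ∀ a, (inv φ).app V (φ.app V a) = a := fun a => congr($h1 a)
  rw [← h3 a, hab, h3]

/-- `π_* A ⟶ (π|_V)_* (A|_V)`, `V` an open of the source. -/
noncomputable def toPush (π : Z ⟶ Y) (A : Z.Modules) (V : Z.Opens) :
    (Scheme.Modules.pushforward π).obj A ⟶ (Scheme.Modules.pushforward π).obj (cut A V) :=
  (Scheme.Modules.pushforward π).map (Fga.Compare.toCut A V)

theorem toPush_bijective (π : Z ⟶ Y) (A : Z.Modules) (W V : Y.Opens) (hV : V ≤ W) :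
    Function.Bijective ((toPush π A (π ⁻¹ᵁ W)).app V) :=
  Fga.Compare.toCut_bijective A (π ⁻¹ᵁ W) (π ⁻¹ᵁ V) (fun _ hz => hV hz)

/-- `cut A V` as a direct image. -/
noncomputable def cutIso (A : Z.Modules) (V : Z.Opens) :
    cut A V ≅ (Scheme.Modules.pushforward V.ι).obj ((Scheme.Modules.pullback V.ι).obj A) :=
  (Scheme.Modules.pushforward V.ι).mapIso ((Scheme.Modules.restrictFunctorIsoPullback V.ι).app A)

/-- `π_* cut A V` as a direct image. -/
noncomputable def pushCutIso (π : Z ⟶ Y) (A : Z.Modules) (V : Z.Opens) :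
    (Scheme.Modules.pushforward π).obj (cut A V) ≅
      (Scheme.Modules.pushforward (V.ι ≫ π)).obj ((Scheme.Modules.pullback V.ι).obj A) :=
  (Scheme.Modules.pushforward π).mapIso (cutIso A V) ≪≫ (Scheme.Modules.pushforwardComp V.ι π).app _

/-- The unit of an isomorphism. -/
noncomputable def unitIso {V W : Scheme.{u}} (θ : V ⟶ W) [IsIso θ] (M : W.Modules) :
    M ≅ (Scheme.Modules.pushforward θ).obj ((Scheme.Modules.pullback θ).obj M) := by
  haveI : IsIso ((Scheme.Modules.restrictAdjunction θ).unit.app M) := by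
    rw [Scheme.Modules.Hom.isIso_iff_isIso_app]
    intro U
    rw [Scheme.Modules.restrictAdjunction_unit_app_app]
    have h : θ ''ᵁ θ ⁻¹ᵁ U = U := by
      rw [Scheme.Hom.image_preimage_eq_opensRange_inf, Scheme.Hom.opensRange_of_isIso, top_inf_eq]
    have h2 : homOfLE (θ.image_preimage_le U) = eqToHom h := Subsingleton.elim _ _
    rw [h2]
    exact (M.presheaf.mapIso (eqToIso h).op).isIso_hom
  exact asIso ((Scheme.Modules.restrictAdjunction θ).unit.app M) ≪≫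
    (Scheme.Modules.pushforward θ).mapIso ((Scheme.Modules.restrictFunctorIsoPullback θ).app M)

section dim

theorem exists_dim_le_of_finiteType (K A : Type u) [Field K] [CommRing A] [Algebra K A]
    [Algebra.FiniteType K A] : ∃ n : ℕ, ringKrullDim A ≤ n := by
  obtain ⟨n, f, hf⟩ := Algebra.FiniteType.iff_quotient_mvPolynomial''.1 ‹Algebra.FiniteType K A›
  refine ⟨n, (ringKrullDim_le_of_surjective f.toRingHom hf).trans ?_⟩
  rw [MvPolynomial.ringKrullDim_of_isNoetherianRing, ringKrullDim_eq_zero_of_field]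
  simp

theorem exists_dim_le_of_isAffine {K : Type u} [Field K] {Z : Scheme.{u}} [IsAffine Z]
    (g : Z ⟶ Spec (CommRingCat.of K)) [LocallyOfFiniteType g] :
    ∃ n : ℕ, topologicalKrullDim Z ≤ n := by
  obtain ⟨g', hg'⟩ : ∃ g' : CommRingCat.of K ⟶ Γ(Z, ⊤), Z.isoSpec.inv ≫ g = Spec.map g' :=
    ⟨Spec.preimage (Z.isoSpec.inv ≫ g), (Spec.map_preimage _).symm⟩
  have hft : g'.hom.FiniteType := by
    have : LocallyOfFiniteType (Spec.map g') := by rw [← hg']; infer_instance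
    exact HasRingHomProperty.Spec_iff.mp this
  algebraize [g'.hom]
  obtain ⟨n, hn⟩ := exists_dim_le_of_finiteType K Γ(Z, ⊤)
  refine ⟨n, ?_⟩
  rw [Flat2D.FibreDimSch.topologicalKrullDim_eq_of_iso Z.isoSpec]
  exact (PrimeSpectrum.topologicalKrullDim_eq_ringKrullDim (R := Γ(Z, ⊤))).trans_le hn

/-- A scheme of finite type over a field has finite dimension. -/
theorem exists_dim_le {K : Type u} [Field K] {X : Scheme.{u}}
    (a : X ⟶ Spec (CommRingCat.of K)) [LocallyOfFiniteType a] [QuasiCompact a] :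
    ∃ n : ℕ, topologicalKrullDim X ≤ n := by
  classical
  have : CompactSpace X := (quasiCompact_iff_compactSpace a).mp inferInstance
  let 𝒰 := X.affineCover.finiteSubcover
  have h𝒰 : ∀ i, IsAffine (𝒰.X i) := fun i => by
    change IsAffine (X.affineCover.X _)
    infer_instance
  have h := fun i => exists_dim_le_of_isAffine (𝒰.f i ≫ a)
  choose n hn using h
  refine ⟨Finset.univ.sup n, ?_⟩
  rw [Flat2D.FibreDimSch.topologicalKrullDim_eq_iSup_openCover _ 𝒰]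
  refine iSup_le fun i => (hn i).trans ?_
  exact_mod_cast Finset.le_sup (f := n) (Finset.mem_univ i)

end dim

/-- Intersection numbers of classes from the base only see an open set with small complement. -/
theorem intNum_eq_of_iso_over (k : Type u) [Field k] {Z₁ Z₂ Y : Scheme.{u}}
    [Z₁.Over (Spec (CommRingCat.of k))] [Z₂.Over (Spec (CommRingCat.of k))] [Y.Over (Spec (CommRingCat.of k))]
    [IsProper (Z₁ ↘ Spec (CommRingCat.of k))] [IsProper (Z₂ ↘ Spec (CommRingCat.of k))]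
    [IsProper (Y ↘ Spec (CommRingCat.of k))]
    (π₁ : Z₁ ⟶ Y) (π₂ : Z₂ ⟶ Y) (hπ₁ : π₁ ≫ (Y ↘ Spec (CommRingCat.of k)) = Z₁ ↘ Spec (CommRingCat.of k))
    (hπ₂ : π₂ ≫ (Y ↘ Spec (CommRingCat.of k)) = Z₂ ↘ Spec (CommRingCat.of k))
    (W : Y.Opens) (hW₁ : IsFinite (π₁ ∣_ W)) (hW₂ : IsFinite (π₂ ∣_ W)) (r d : ℕ)
    (hd₁ : topologicalKrullDim Z₁ ≤ d) (hd₂ : topologicalKrullDim Z₂ ≤ d)
    (hW : topologicalKrullDim ((W : Set Y)ᶜ : Set Y) < r)
    (M : Fin r → Y.Modules) (hM : ∀ i, PicF.IsInvertible (M i))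
    (A₁ : Z₁.Modules) (A₂ : Z₂.Modules) (hA₁ : Coh.IsCoh A₁) (hA₂ : Coh.IsCoh A₂)
    (θ : ((π₁ ⁻¹ᵁ W : Z₁.Opens) : Scheme.{u}) ⟶ ((π₂ ⁻¹ᵁ W : Z₂.Opens) : Scheme.{u})) [IsIso θ]
    (hθ : θ ≫ (π₂ ⁻¹ᵁ W).ι ≫ π₂ = (π₁ ⁻¹ᵁ W).ι ≫ π₁)
    (e : (Scheme.Modules.pullback (π₁ ⁻¹ᵁ W).ι).obj A₁ ≅ (Scheme.Modules.pullback (θ ≫ (π₂ ⁻¹ᵁ W).ι)).obj A₂) :
    FGA.intNum k Z₁ d (fun i => (Scheme.Modules.pullback π₁).obj (M i)) A₁ =
      FGA.intNum k Z₂ d (fun i => (Scheme.Modules.pullback π₂).obj (M i)) A₂ := by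
  have hprop₁ : IsProper (π₁ ≫ (Y ↘ (Spec (CommRingCat.of k)))) := by rw [hπ₁]; infer_instance
  have hgp₁ : IsProper π₁ := IsProper.of_comp π₁ (Y ↘ (Spec (CommRingCat.of k)))
  have hprop₂ : IsProper (π₂ ≫ (Y ↘ (Spec (CommRingCat.of k)))) := by rw [hπ₂]; infer_instance
  have hgp₂ : IsProper π₂ := IsProper.of_comp π₂ (Y ↘ (Spec (CommRingCat.of k)))
  have hNY := Fga.SnapperTwist.isNoetherian_of_proper k Y
  have hNZ₁ := Fga.SnapperTwist.isNoetherian_of_proper k Z₁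
  have hNZ₂ := Fga.SnapperTwist.isNoetherian_of_proper k Z₂
  obtain ⟨n, hn⟩ := exists_dim_le (Y ↘ (Spec (CommRingCat.of k)))
  rw [intNum_push k Y Z₁ π₁ hπ₁ W hW₁ hW d n hd₁ hn M hM A₁ hA₁,
    intNum_push k Y Z₂ π₂ hπ₂ W hW₂ hW d n hd₂ hn M hM A₂ hA₂]
  have hc₁ : Coh.IsCoh ((Scheme.Modules.pushforward π₁).obj A₁) := by
    have := VarietyB.HHPush.enoughInjectives Z₁
    exact Sga67.CohBasic.isCoh_of_iso ((rpushZero π₁).app A₁) (S0036.result π₁ A₁ hA₁ 0)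
  have hc₂ : Coh.IsCoh ((Scheme.Modules.pushforward π₂).obj A₂) := by
    have := VarietyB.HHPush.enoughInjectives Z₂
    exact Sga67.CohBasic.isCoh_of_iso ((rpushZero π₂).app A₂) (S0036.result π₂ A₂ hA₂ 0)
  let i : (Scheme.Modules.pushforward π₁).obj (cut A₁ (π₁ ⁻¹ᵁ W)) ≅
      (Scheme.Modules.pushforward π₂).obj (cut A₂ (π₂ ⁻¹ᵁ W)) :=
    pushCutIso π₁ A₁ (π₁ ⁻¹ᵁ W) ≪≫ (Scheme.Modules.pushforward _).mapIso e ≪≫
      (Scheme.Modules.pushforwardCongr hθ.symm).app _ ≪≫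
      (Scheme.Modules.pushforwardComp θ ((π₂ ⁻¹ᵁ W).ι ≫ π₂)).symm.app _ ≪≫
      (Scheme.Modules.pushforward ((π₂ ⁻¹ᵁ W).ι ≫ π₂)).mapIso
        ((Scheme.Modules.pushforward θ).mapIso ((Scheme.Modules.pullbackComp θ (π₂ ⁻¹ᵁ W).ι).symm.app A₂) ≪≫
          (unitIso θ _).symm) ≪≫
      (pushCutIso π₂ A₂ (π₂ ⁻¹ᵁ W)).symm
  have hJ : Coh.IsQCoh ((Scheme.Modules.pushforward π₂).obj (cut A₂ (π₂ ⁻¹ᵁ W))) :=
    Sga67.CohBasic.isQCoh_push π₂
      (Sga67.CohBasic.isQCoh_push (π₂ ⁻¹ᵁ W).ι (PerfA.QCohSerre.isQCoh_restrict _ hA₂.1))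
  refine chi_eq (χ := fun F => FGA.intNum k Y n M F) (Fga.IntAdd.isAdd_intNum k Y n hn M hM) hc₁ hc₂ hJ W
    (fun N hN h => intNum_eq_zero_of_off k Y n hn W hW M hM N hN h)
    (toPush π₁ A₁ (π₁ ⁻¹ᵁ W) ≫ i.hom) (toPush π₂ A₂ (π₂ ⁻¹ᵁ W)) (fun V hV => ?_)
    (fun V hV => toPush_bijective π₂ A₂ W V hV)
  exact (bijective_app_of_isIso i.hom V).comp (toPush_bijective π₁ A₁ W V hV)

end K219.IntOver
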