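import Groth.Agent.Fga.PicMon
import Groth.Agent.Fga.EulerLEAdd
import Groth.Agent.Fga.SnapperTwist
import Groth.Agent.Fga.IntAdd
import Groth.Agent.Fga.Compare
import Groth.Agent.Ega3B.PullTensor
import Groth.Agent.Vancyc.H175.FibSupp
import Groth.Agent.S1525
import Groth.Agent.S0927
import Groth.Agent.S0031
import Groth.Agent.S0036
import Groth.Agent.S3231
import Groth.Agent.VarietyB.HHPush
import Groth.Agent.Ega2.QCohLocal

/-!
# Intersection numbers and higher direct images

* `exists_sum`: `intNum Z (π^* M) A = Σ_i (-1)^i intNum Y M (R^i π_* A)`;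
* `chi_eq`: an additive function which vanishes on the coherent modules with support off an open set takes the same
  value on two coherent modules which agree on the open set;
* `intNum_push`: `intNum Z (π^* M) A = intNum Y M (π_* A)` if `π` is finite over an open set whose complement has
  dimension `< r`, `r` the number of classes.
-/

set_option autoImplicit false
universe u
open CategoryTheory CategoryTheory.Limits AlgebraicGeometry Opposite TopologicalSpace

namespace K219.PushSum

open Groth.Agent Groth.Agent.Ega2 Groth.Agent.Fga.PicMon Groth.Agent.Fga.ChiBasic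

variable {X Z : Scheme.{u}}

/-- The module `M_I` attached to a set `I` of indices. -/
noncomputable abbrev word {r : ℕ} (M : Fin r → X.Modules) (I : Finset (Fin r)) : X.Modules :=
  FGA.tensorList ((I.sort (· ≤ ·)).map M)

theorem isInvertible_word {r : ℕ} (M : Fin r → X.Modules) (hM : ∀ i, PicF.IsInvertible (M i)) (I : Finset (Fin r)) :
    PicF.IsInvertible (word M I) :=
  Fga.SnapperTwist.isInvertible_tensorList _ fun N hN => by
    simp only [List.mem_map] at hN
    obtain ⟨i, -, rfl⟩ := hN
    exact hM i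

theorem nonempty_pull_tensorList (g : Z ⟶ X) (l : List X.Modules) (hl : ∀ M ∈ l, PicF.IsInvertible M) :
    Nonempty ((Scheme.Modules.pullback g).obj (FGA.tensorList l) ≅
      FGA.tensorList (l.map (Scheme.Modules.pullback g).obj)) := by
  induction l with
  | nil => exact Ega3B.PullTensor.nonempty_pullUnitIso g
  | cons M l ih =>
    obtain ⟨e⟩ := ih fun N hN => hl N (by simp [hN])
    exact ⟨Ega3B.PullTensor.pullTensorIso g (hl M (by simp))
      (Fga.SnapperTwist.isInvertible_tensorList l fun N hN => hl N (by simp [hN])) ≪≫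
      Tens.mapTIso (Iso.refl _) e⟩

theorem nonempty_pull_word (g : Z ⟶ X) {r : ℕ} (M : Fin r → X.Modules) (hM : ∀ i, PicF.IsInvertible (M i))
    (I : Finset (Fin r)) :
    Nonempty ((Scheme.Modules.pullback g).obj (word M I) ≅ word (fun i => (Scheme.Modules.pullback g).obj (M i)) I) := by
  have h := nonempty_pull_tensorList g ((I.sort (· ≤ ·)).map M) fun N hN => by
    simp only [List.mem_map] at hN
    obtain ⟨i, -, rfl⟩ := hN
    exact hM i
  rw [List.map_map] at h
  exact h

theorem isFinLocFree_of_isInvertible {L : X.Modules} (hL : PicF.IsInvertible L) : FlatMod.IsFinLocFree L :=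
  fun x => by
    obtain ⟨V, hxV, e⟩ := (Ega2.QCohLocal.isFinLocFreeOfRank_one_iff.mpr hL) x
    exact ⟨V, 1, hxV, e⟩

section main

variable (k : Type u) [Field k] (X Z : Scheme.{u})
    [X.Over (Spec (CommRingCat.of k))] [Z.Over (Spec (CommRingCat.of k))]
    [IsProper (X ↘ (Spec (CommRingCat.of k)))] [IsProper (Z ↘ (Spec (CommRingCat.of k)))]
    (g : Z ⟶ X) (hg : g ≫ (X ↘ (Spec (CommRingCat.of k))) = Z ↘ (Spec (CommRingCat.of k)))

include hg

/-- The Leray formula for intersection numbers. -/
theorem exists_sum [HasInjectiveResolutions Z.Modules] (G : Z.Modules) (hG : Coh.IsCoh G) :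
    ∃ N : ℕ, ∀ (d e : ℕ), topologicalKrullDim Z ≤ d → topologicalKrullDim X ≤ e →
      ∀ {r : ℕ} (M : Fin r → X.Modules), (∀ i, PicF.IsInvertible (M i)) →
      FGA.intNum k Z d (fun i => (Scheme.Modules.pullback g).obj (M i)) G =
        ∑ i ∈ Finset.range (N + 1), (-1 : ℤ) ^ i * FGA.intNum k X e M ((Coh.Rpush g i).obj G) := by
  have hprop : IsProper (g ≫ (X ↘ (Spec (CommRingCat.of k)))) := by rw [hg]; infer_instance
  have hgp : IsProper g := IsProper.of_comp g (X ↘ (Spec (CommRingCat.of k)))
  have hNX := Fga.SnapperTwist.isNoetherian_of_proper k X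
  have hNZ := Fga.SnapperTwist.isNoetherian_of_proper k Z
  obtain ⟨N, hN⟩ := S0031.result g
  refine ⟨N, ?_⟩
  intro d e hd he r M hM
  have hzero : ∀ i, N ≤ i → IsZero ((Coh.Rpush g i).obj G) := fun i hi =>
    (Ega4B.RpushCompare.isZero_rpush_iff g G i).mpr (hN G hG.1 i hi)
  have hadd : IsAdd (fun F : X.Modules => FGA.eulerCharLE k X F e) := Fga.IntAdd.isAdd_euler k X e he
  have key : ∀ I : Finset (Fin r),
      FGA.eulerCharLE k Z (CohB1.tensorMod (word (fun i => (Scheme.Modules.pullback g).obj (M i)) I) G) d =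
        ∑ i ∈ Finset.range (N + 1), (-1 : ℤ) ^ i *
          FGA.eulerCharLE k X (CohB1.tensorMod (word M I) ((Coh.Rpush g i).obj G)) e := by
    intro I
    obtain ⟨e1⟩ := nonempty_pull_word g M hM I
    have hinv := isInvertible_word M hM I
    have hinv' : PicF.IsInvertible ((Scheme.Modules.pullback g).obj (word M I)) :=
      Fdesc.LocGen.isInvertible_pullback g hinv
    have hc1 : Coh.IsCoh (CohB1.tensorMod ((Scheme.Modules.pullback g).obj (word M I)) G) :=
      Fga.SnapperTwist.isCoh_tensor' hinv' hG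
    rw [euler_iso k Z (Tens.mapTIso e1.symm (Iso.refl G)), Fga.EulerLEAdd.eulerCharLE_eq_euler k Z d hd,
      S1525.result k X Z g hg _ hc1]
    have hcongr : ∀ i : ℕ, Curv2.euler k X ((Coh.Rpush g i).obj
        (CohB1.tensorMod ((Scheme.Modules.pullback g).obj (word M I)) G)) =
        FGA.eulerCharLE k X (CohB1.tensorMod (word M I) ((Coh.Rpush g i).obj G)) e := by
      intro i
      obtain ⟨e2⟩ := S0927.result g G (word M I) (isFinLocFree_of_isInvertible hinv) i
      rw [← Fga.EulerLEAdd.eulerCharLE_eq_euler k X e he, euler_iso k X e2]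
    rw [finsum_congr fun i => by rw [hcongr i]]
    refine finsum_eq_sum_of_support_subset _ ?_
    intro i hi
    rw [Finset.coe_range, Set.mem_Iio]
    by_contra hlt
    apply hi
    have hz : IsZero (CohB1.tensorMod (word M I) ((Coh.Rpush g i).obj G)) := by
      have h1 := (Functor.map_isZero (DCoh.tensorBi.obj (word M I)) (hzero i (by omega)))
      exact h1
    have h2 : FGA.eulerCharLE k X (CohB1.tensorMod (word M I) ((Coh.Rpush g i).obj G)) e = 0 :=
      chi_isZero hadd hz
    simp only [h2, mul_zero]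
  unfold FGA.intNum
  simp_rw [Finset.mul_sum]
  rw [Finset.sum_comm]
  refine Finset.sum_congr rfl fun I _ => ?_
  rw [key I, Finset.mul_sum]
  refine Finset.sum_congr rfl fun i _ => ?_
  ring

end main

/-- Additive functions only see an open set off which they vanish. -/
theorem chi_eq [IsNoetherian X] {χ : X.Modules → ℤ} (hχ : IsAdd χ) {F H J : X.Modules} (hF : Coh.IsCoh F)
    (hH : Coh.IsCoh H) (hJ : Coh.IsQCoh J) (U : X.Opens)
    (hz : ∀ N : X.Modules, Coh.IsCoh N → (∀ x ∈ U, x ∉ CohB1.support N) → χ N = 0) (α : F ⟶ J) (β : H ⟶ J)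
    (hα : ∀ V : X.Opens, V ≤ U → Function.Bijective (α.app V))
    (hβ : ∀ V : X.Opens, V ≤ U → Function.Bijective (β.app V)) : χ F = χ H := by
  have hG : Coh.IsCoh (Fga.Compare.G α β) :=
    Sga67.CohBasic.isCoh_kernel _ (Sga67.CohBasic.isCoh_biprod hF hH) hJ
  have h1 := chi_map hχ (Fga.Compare.p α β) hG hF
  have h2 := chi_map hχ (Fga.Compare.q α β) hG hH
  rw [hz _ (Sga67.CohBasic.isCoh_cokernel _ hG.1 hF)
      (Fga.Compare.not_mem_support_cokernel U _ (Fga.Compare.p_surj α β hβ)),
    hz _ (Sga67.CohBasic.isCoh_kernel _ hG hF.1)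
      (Fga.Compare.not_mem_support_kernel U _ (Fga.Compare.p_inj α β hβ))] at h1
  rw [hz _ (Sga67.CohBasic.isCoh_cokernel _ hG.1 hH)
      (Fga.Compare.not_mem_support_cokernel U _ (Fga.Compare.q_surj α β hα)),
    hz _ (Sga67.CohBasic.isCoh_kernel _ hG hH.1)
      (Fga.Compare.not_mem_support_kernel U _ (Fga.Compare.q_inj α β hα))] at h2
  omega

/-- `R^0 g_* = g_*`. -/
noncomputable def rpushZero {Z X : Scheme.{u}} (g : Z ⟶ X) [HasInjectiveResolutions Z.Modules] :
    Coh.Rpush g 0 ≅ Scheme.Modules.pushforward g :=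
  haveI : PreservesFiniteLimits (Scheme.Modules.pushforward g) :=
    haveI := (Scheme.Modules.pullbackPushforwardAdjunction g).rightAdjoint_preservesLimits
    PreservesLimits.preservesFiniteLimits _
  (Scheme.Modules.pushforward g).rightDerivedZeroIsoSelf

section finite

variable (k : Type u) [Field k] (X Z : Scheme.{u})
    [X.Over (Spec (CommRingCat.of k))] [Z.Over (Spec (CommRingCat.of k))]
    [IsProper (X ↘ (Spec (CommRingCat.of k)))] [IsProper (Z ↘ (Spec (CommRingCat.of k)))]
    (g : Z ⟶ X) (hg : g ≫ (X ↘ (Spec (CommRingCat.of k))) = Z ↘ (Spec (CommRingCat.of k)))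

/-- A coherent module with support off `W` has support of dimension `< r`. -/
theorem intNum_eq_zero_of_off (e : ℕ) (he : topologicalKrullDim X ≤ e) (W : X.Opens) {r : ℕ}
    (hW : topologicalKrullDim ((W : Set X)ᶜ : Set X) < r) (M : Fin r → X.Modules) (hM : ∀ i, PicF.IsInvertible (M i))
    (N : X.Modules) (hN : Coh.IsCoh N) (h : ∀ x ∈ W, x ∉ CohB1.support N) : FGA.intNum k X e M N = 0 :=
  S3231.result k X e he M hM N hN (lt_of_le_of_lt (Fga.DimLt.topologicalKrullDim_mono fun x hx hxW => h x hxW hx) hW)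

include hg

/-- **Push formula** for morphisms which are finite off a small closed set. -/
theorem intNum_push (W : X.Opens) (hW : IsFinite (g ∣_ W)) {r : ℕ} (hdim : topologicalKrullDim ((W : Set X)ᶜ : Set X) < r)
    (d e : ℕ) (hd : topologicalKrullDim Z ≤ d) (he : topologicalKrullDim X ≤ e)
    (M : Fin r → X.Modules) (hM : ∀ i, PicF.IsInvertible (M i)) (G : Z.Modules) (hG : Coh.IsCoh G) :
    FGA.intNum k Z d (fun i => (Scheme.Modules.pullback g).obj (M i)) G =
      FGA.intNum k X e M ((Scheme.Modules.pushforward g).obj G) := by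
  have hprop : IsProper (g ≫ (X ↘ (Spec (CommRingCat.of k)))) := by rw [hg]; infer_instance
  have hgp : IsProper g := IsProper.of_comp g (X ↘ (Spec (CommRingCat.of k)))
  have hNX := Fga.SnapperTwist.isNoetherian_of_proper k X
  have hNZ := Fga.SnapperTwist.isNoetherian_of_proper k Z
  have hEI := VarietyB.HHPush.enoughInjectives Z
  have hIR : HasInjectiveResolutions Z.Modules := inferInstance
  obtain ⟨N, hN⟩ := exists_sum k X Z g hg G hG
  rw [hN d e hd he M hM]
  have hpos : ∀ i : ℕ, FGA.intNum k X e M ((Coh.Rpush g (i + 1)).obj G) = 0 := by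
    intro i
    refine intNum_eq_zero_of_off k X e he W hdim M hM _ (S0036.result g G hG (i + 1)) fun x hx => ?_
    refine Vancyc.H175.FibSupp.not_mem_support_rpush g hG (i + 1) (Nat.succ_pos i) x ?_
    have h1 : ((g ∣_ W) ⁻¹' {(⟨x, hx⟩ : W)}).Finite := (g ∣_ W).finite_preimage_singleton _
    refine (h1.image (g ⁻¹ᵁ W).ι).subset ?_
    intro z hz
    have hz' : g z = x := hz
    have hzW : z ∈ g ⁻¹ᵁ W := by
      change g z ∈ W
      rw [hz']
      exact hx
    let z' : ((g ⁻¹ᵁ W : Z.Opens) : Scheme.{u}) := ⟨z, hzW⟩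
    refine ⟨z', ?_, rfl⟩
    have h2 : ((g ∣_ W) ≫ W.ι) z' = ((g ⁻¹ᵁ W).ι ≫ g) z' := by rw [morphismRestrict_ι]
    have h3 : ((g ∣_ W) z').1 = x := h2.trans hz'
    exact Subtype.ext h3
  rw [Finset.sum_range_succ', Finset.sum_eq_zero, zero_add, pow_zero, one_mul]
  · exact intNum_iso k X e M ((rpushZero g).app G)
  · intro i _
    rw [hpos i, mul_zero]

end finite

end K219.PushSum
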